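import Groth.Agent.TorsExt.Vanish
import Mathlib.CategoryTheory.Abelian.Projective.Extend
import Groth.Prelude.Def_Wider

/-!
Maps out of power torsion modules are unchanged by a flat map which is an isomorphism modulo the ideal.
-/

set_option linter.style.haveILetI false

universe u

open CategoryTheory CategoryTheory.Limits CategoryTheory.Pretriangulated
open scoped TensorProduct

attribute [local instance] HasDerivedCategory.standard

namespace Groth.Agent.TorsExt

/-- Changing the target by an isomorphism, additively. -/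
noncomputable def homAddCongr {C : Type*} [Category C] [Preadditive C] (X : C) {Y Y' : C} (a : Y ≅ Y') :
    (X ⟶ Y) ≃+ (X ⟶ Y') :=
  AddEquiv.mk' ((Iso.refl X).homCongr a) fun x y => by simp

theorem main {A B : Type u} [CommRing A] [CommRing B] (φ : A →+* B) (hφ : φ.Flat) (I : Ideal A) (hI : I.FG)
    (hs : Function.Surjective ((Ideal.Quotient.mk (I.map φ)).comp φ))
    (hk : RingHom.ker ((Ideal.Quotient.mk (I.map φ)).comp φ) = I) (M N : ModuleCat.{u} A)
    (hM : LocCoh.IsPowerTorsion I M) (i : ℤ) :
    Nonempty (((DerivedCategory.singleFunctor _ 0).obj M ⟶ ((DerivedCategory.singleFunctor _ 0).obj N)⟦i⟧) ≃+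
      ((DerivedCategory.singleFunctor _ 0).obj ((ModuleCat.extendScalars.{u, u, u} φ).obj M) ⟶
        ((DerivedCategory.singleFunctor _ 0).obj ((ModuleCat.extendScalars.{u, u, u} φ).obj N))⟦i⟧)) := by
  classical
  obtain ⟨s, hspan⟩ := hI
  haveI := ModuleCat.preservesFiniteLimits_extendScalars_of_flat hφ
  haveI : (ModuleCat.extendScalars.{u, u, u} φ).IsLeftAdjoint :=
    (ModuleCat.extendRestrictScalarsAdj φ).isLeftAdjoint
  haveI : PreservesFiniteColimits (ModuleCat.extendScalars.{u, u, u} φ) := inferInstance
  let ext := ModuleCat.extendScalars.{u, u, u} φ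
  let res := ModuleCat.restrictScalars.{u} φ
  let R := projectiveResolution N
  let P := R.cochainComplex
  have hP : ∀ n, Module.Flat A (P.X n) := fun n => by
    haveI : Module.Projective A (P.X n) :=
      (IsProjective.iff_projective (P.X n : ModuleCat.{u} A)).2 (inferInstanceAs (Projective (P.X n)))
    infer_instance
  have hvan : ∀ j : ℤ, Subsingleton ((DerivedCategory.singleFunctor _ 0).obj M ⟶
      (DerivedCategory.Q.obj (CochainComplex.mappingCone (ηC φ P)))⟦j⟧) := by
    refine subsingleton_hom s.toList _ (flat_cone hφ P hP) (fun W hW => acyclic_map_cone W P ?_) M ?_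
    · have hWI : ∀ a ∈ I, ∀ w : W, a • w = 0 := by
        intro a ha
        rw [← hspan] at ha
        induction ha using Submodule.span_induction with
        | mem x hx => exact hW x (Finset.mem_toList.2 hx)
        | zero => exact fun w => zero_smul A w
        | add x y _ _ hx hy => intro w; rw [add_smul, hx, hy, add_zero]
        | smul c x _ hx => intro w; rw [smul_eq_mul, mul_smul, hx, smul_zero]
      haveI : ∀ n, IsIso ((ηC φ ((onCx (T W)).obj P)).f n) := fun n =>
        isIso_η_of_killed φ I hs hk _ (fun a ha (z : W ⊗[A] P.X n) => show (a • z : W ⊗[A] P.X n) = 0 by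
          induction z using TensorProduct.induction_on with
          | zero => exact smul_zero a
          | tmul w x =>
            exact (TensorProduct.smul_tmul' a w x).trans (by rw [hWI a ha]; exact TensorProduct.zero_tmul _ x)
          | add x y hx hy => rw [smul_add, hx, hy, add_zero])
      haveI : IsIso (ηC φ ((onCx (T W)).obj P)) := HomologicalComplex.Hom.isIso_of_components _
      infer_instance
    · intro f hf m
      obtain ⟨n, hn⟩ := hM m
      exact ⟨n, hn _ (Ideal.pow_mem_pow (hspan ▸ Submodule.subset_span (Finset.mem_toList.1 hf)) n)⟩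
  let T₀ := DerivedCategory.Q.mapTriangle.obj (CochainComplex.mappingCone.triangle (ηC φ P))
  let T' := (Triangle.shiftFunctor _ i).obj T₀
  have hT' : T' ∈ distinguishedTriangles :=
    Triangle.shift_distinguished T₀ (DerivedCategory.mappingCone_triangle_distinguished (ηC φ P)) i
  let S := (DerivedCategory.singleFunctor (ModuleCat.{u} A) 0).obj M
  let post : (S ⟶ T'.obj₁) →+ (S ⟶ T'.obj₂) :=
    AddMonoidHom.mk' (fun x => x ≫ T'.mor₁) fun x y => Preadditive.add_comp _ _ _ _ _ _
  have hpost : Function.Bijective post := by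
    refine ⟨(injective_iff_map_eq_zero post).2 fun x hx => ?_, fun x => ?_⟩
    · obtain ⟨y, hy⟩ := Triangle.coyoneda_exact₂ _ (inv_rot_of_distTriang _ hT') x hx
      let c : (T'.obj₃)⟦(-1 : ℤ)⟧ ≅ T₀.obj₃⟦i - 1⟧ :=
        ((shiftFunctorAdd' (DerivedCategory (ModuleCat.{u} A)) i (-1) (i - 1) (by omega)).app T₀.obj₃).symm
      have hy0 : y = 0 :=
        @Subsingleton.elim _ (@Equiv.subsingleton _ _ ((Iso.refl _).homCongr c) (hvan (i - 1))) y 0
      rw [hy, hy0]
      exact zero_comp
    · obtain ⟨y, hy⟩ := Triangle.coyoneda_exact₂ _ hT' x ((hvan i).elim _ _)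
      exact ⟨y, hy.symm⟩
  let a₁ : DerivedCategory.Q.obj P ≅ (DerivedCategory.singleFunctor _ 0).obj N :=
    asIso (DerivedCategory.Q.map R.π') ≪≫ ((DerivedCategory.singleFunctorIsoCompQ _ 0).app N).symm
  let a₂ : DerivedCategory.Q.obj ((onCx (F φ)).obj P) ≅
      res.mapDerivedCategory.obj ((DerivedCategory.singleFunctor _ 0).obj (ext.obj N)) :=
    ((res.mapDerivedCategoryFactors).app ((ext.mapHomologicalComplex (ComplexShape.up ℤ)).obj P)).symm ≪≫
      res.mapDerivedCategory.mapIso ((ext.mapDerivedCategoryFactors.app P).symm ≪≫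
        ext.mapDerivedCategory.mapIso a₁ ≪≫ (ext.mapDerivedCategorySingleFunctor 0).app N)
  obtain ⟨e⟩ := HDURestr.nonempty_hom_addEquiv (ModuleCat.extendRestrictScalarsAdj φ) M (ext.obj M)
    (Iso.refl _) ((DerivedCategory.singleFunctor _ 0).obj (ext.obj N)) i
  exact ⟨(homAddCongr S ((shiftFunctor _ i).mapIso a₁)).symm.trans
    ((AddEquiv.ofBijective post hpost).trans
      ((homAddCongr S ((shiftFunctor _ i).mapIso a₂)).trans e.symm))⟩

end Groth.Agent.TorsExt
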