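import Groth.Agent.KFlatLib.Preserve
import Groth.Agent.H9Misc.DRingTor
import Mathlib

/-!
The unit `Y ⟶ B ⊗ Y` of a base change, as a natural transformation of endofunctors.
-/

set_option linter.style.haveILetI false

universe u

open CategoryTheory CategoryTheory.Limits MonoidalCategory
open scoped TensorProduct

namespace Groth.Agent.TorsExt

variable {A B : Type u} [CommRing A] [CommRing B] (φ : A →+* B)

/-- `B` as an `A`-module. -/
noncomputable abbrev Bm : ModuleCat.{u} A := (ModuleCat.restrictScalars φ).obj (ModuleCat.of B B)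

/-- The element one. -/
noncomputable def oneB : Bm φ := (1 : B)

/-- Tensoring with `B`. -/
noncomputable abbrev F : ModuleCat.{u} A ⥤ ModuleCat.{u} A := tensorLeft (Bm φ)

/-- Tensoring with `W`. -/
noncomputable abbrev T (W : ModuleCat.{u} A) : ModuleCat.{u} A ⥤ ModuleCat.{u} A := tensorLeft W

/-- `y ↦ 1 ⊗ y`. -/
noncomputable def η : 𝟭 (ModuleCat.{u} A) ⟶ F φ where
  app Y := ModuleCat.ofHom (TensorProduct.mk A (Bm φ) Y (oneB φ))
  naturality _ _ _ := rfl

lemma η_app_apply (Y : ModuleCat.{u} A) (y : Y) : (η φ).app Y y = oneB φ ⊗ₜ[A] y := rfl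

/-- Exchanging two tensor factors. -/
noncomputable def commIso (W : ModuleCat.{u} A) : F φ ⋙ T W ≅ T W ⋙ F φ :=
  NatIso.ofComponents
    (fun Y => (α_ W (Bm φ) Y).symm ≪≫ whiskerRightIso (β_ W (Bm φ)) Y ≪≫ α_ (Bm φ) W Y)
    (fun {Y Z} g => by
      apply ModuleCat.hom_ext
      refine TensorProduct.ext' fun w x => ?_
      induction x using TensorProduct.induction_on with
      | zero => simp
      | tmul b y => rfl
      | add x y hx hy => simp only [TensorProduct.tmul_add, map_add, hx, hy])

lemma map_η_commIso (W Y : ModuleCat.{u} A) :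
    (T W).map ((η φ).app Y) ≫ (commIso φ W).hom.app Y = (η φ).app ((T W).obj Y) := by
  apply ModuleCat.hom_ext
  exact TensorProduct.ext' fun w y => rfl

instance additive_F : (F φ).Additive := inferInstance

/-- If `T W (η)` is an isomorphism exactly when `η` is one at `W ⊗ Y`. -/
lemma isIso_map_η_iff (W Y : ModuleCat.{u} A) :
    IsIso ((T W).map ((η φ).app Y)) ↔ IsIso ((η φ).app ((T W).obj Y)) := by
  rw [← map_η_commIso]
  exact ⟨fun _ => inferInstance, fun _ => IsIso.of_isIso_comp_right _ ((commIso φ W).hom.app Y)⟩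

/-- If `A/I = B/IB`, the unit is an isomorphism on modules killed by `I`. -/
lemma isIso_η_of_killed (I : Ideal A) (hs : Function.Surjective ((Ideal.Quotient.mk (I.map φ)).comp φ))
    (hk : RingHom.ker ((Ideal.Quotient.mk (I.map φ)).comp φ) = I) (Z : ModuleCat.{u} A)
    (hZ : ∀ a ∈ I, ∀ z : Z, a • z = 0) : IsIso ((η φ).app Z) := by
  choose σ hσ using fun b : B => hs (Ideal.Quotient.mk (I.map φ) b)
  have hσ' : ∀ (b : B) (a : A) (z : Z), Ideal.Quotient.mk (I.map φ) (φ a) = Ideal.Quotient.mk (I.map φ) b →
      σ b • z = a • z := fun b a z h => by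
    have hmem : σ b - a ∈ I := by
      rw [← hk, RingHom.mem_ker, map_sub, hσ]
      exact sub_eq_zero.2 h.symm
    rw [← sub_eq_zero, ← sub_smul, hZ _ hmem]
  have hadd : ∀ (b b' : B) (z : Z), σ (b + b') • z = σ b • z + σ b' • z := fun b b' z => by
    rw [← add_smul]
    refine hσ' _ _ z ?_
    rw [map_add, map_add, map_add]
    exact congrArg₂ (· + ·) (hσ b) (hσ b')
  have hsmul : ∀ (a : A) (b : B) (z : Z), σ (φ a * b) • z = a • σ b • z := fun a b z => by
    rw [smul_smul]
    refine hσ' _ _ z ?_
    rw [map_mul, map_mul, map_mul]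
    exact congrArg (_ * ·) (hσ b)
  let bil : Bm φ →ₗ[A] Z →ₗ[A] Z := LinearMap.mk₂ A (fun (b : Bm φ) z => σ (show B from b) • z)
    (fun b b' z => hadd b b' z)
    (fun a b z => hsmul a b z)
    (fun b z z' => smul_add _ z z')
    (fun a b z => smul_comm _ _ _)
  let r : (F φ).obj Z ⟶ Z := ModuleCat.ofHom (TensorProduct.lift bil)
  refine ⟨r, ?_, ?_⟩
  · ext z
    show σ (1 : B) • z = z
    rw [hσ' 1 1 z (by rw [map_one])]
    exact one_smul A z
  · apply ModuleCat.hom_ext
    refine TensorProduct.ext' fun b z => ?_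
    show oneB φ ⊗ₜ[A] (σ (show B from b) • z) = b ⊗ₜ[A] z
    rw [← TensorProduct.smul_tmul]
    have hd : (show B from b) - φ (σ (show B from b)) ∈ I.map φ := by
      rw [← Ideal.Quotient.mk_eq_mk_iff_sub_mem]
      exact (hσ _).symm
    have key : ∀ d ∈ I.map φ, ∀ c : B, (show Bm φ from c * d) ⊗ₜ[A] z = 0 := by
      intro d hd
      refine Submodule.span_induction ?_ ?_ ?_ ?_ hd
      · rintro _ ⟨a, ha, rfl⟩ c
        rw [show (show Bm φ from c * φ a) = a • (show Bm φ from c) from mul_comm c (φ a),
          TensorProduct.smul_tmul, hZ a ha, TensorProduct.tmul_zero]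
      · intro c
        rw [mul_zero]
        exact TensorProduct.zero_tmul _ z
      · intro x y _ _ hx hy c
        rw [mul_add]
        refine (TensorProduct.add_tmul (show Bm φ from c * x) (show Bm φ from c * y) z).trans ?_
        rw [hx c, hy c, add_zero]
      · intro e x _ hx c
        rw [smul_eq_mul, ← mul_assoc]
        exact hx _
    have h1 := key _ hd 1
    rw [one_mul] at h1
    have h2 : σ (show B from b) • oneB φ = (show Bm φ from φ (σ (show B from b))) :=
      mul_one (φ (σ (show B from b)))
    rw [h2]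
    have h3 : b = (show Bm φ from φ (σ (show B from b))) +
        (show Bm φ from (show B from b) - φ (σ (show B from b))) := (add_sub_cancel _ (show B from b)).symm
    conv_rhs => rw [h3]
    rw [TensorProduct.add_tmul, h1, add_zero]

/-- If a scalar which becomes a unit acts bijectively, the unit of a localisation is bijective. -/
lemma isIso_η_away_aux (f : A) (hloc : @IsLocalization.Away A _ f B _ φ.toAlgebra)
    (Z : ModuleCat.{u} A) (hZ : Function.Bijective fun z : Z => f • z) : IsIso ((η φ).app Z) := by
  let _ : Algebra A B := φ.toAlgebra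
  haveI : IsLocalization.Away f B := hloc
  have hp : ∀ n : ℕ, Function.Bijective fun z : Z => f ^ n • z := by
    intro n
    induction n with
    | zero => simp only [pow_zero, one_smul]; exact Function.bijective_id
    | succ n ih =>
      convert ih.comp hZ using 1
      funext z
      simp [pow_succ, mul_smul]
  let S := B
  haveI : IsLocalizedModule (Submonoid.powers f) ((TensorProduct.mk A S Z) 1) :=
    (isLocalizedModule_iff_isBaseChange (Submonoid.powers f) S _).2 (TensorProduct.isBaseChange A Z S)
  have hbij : Function.Bijective (TensorProduct.mk A S Z 1) := by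
    refine ⟨(injective_iff_map_eq_zero _).2 fun z hz => ?_, fun y => ?_⟩
    · obtain ⟨⟨s, n, rfl⟩, hs⟩ := (IsLocalizedModule.eq_zero_iff (Submonoid.powers f) _).1 hz
      exact (hp n).1 (hs.trans (smul_zero _).symm)
    · obtain ⟨⟨x, ⟨s, n, rfl⟩⟩, hxy⟩ := IsLocalizedModule.surj (Submonoid.powers f) ((TensorProduct.mk A S Z) 1) y
      obtain ⟨x', rfl⟩ := (hp n).2 x
      refine ⟨x', ?_⟩
      have hu : Function.Injective fun v : S ⊗[A] Z => f ^ n • v :=
        ((Module.End.isUnit_iff _).1 (IsLocalizedModule.map_units ((TensorProduct.mk A S Z) 1)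
          (⟨f ^ n, n, rfl⟩ : Submonoid.powers f))).1
      refine hu ?_
      show f ^ n • _ = f ^ n • _
      rw [← map_smul]
      exact hxy.symm
  rw [ConcreteCategory.isIso_iff_bijective]
  exact hbij

/-- If a scalar acts bijectively, the unit of the localisation at it is bijective. -/
lemma isIso_η_away (f : A) (Z : ModuleCat.{u} A) (hZ : Function.Bijective fun z : Z => f • z) :
    IsIso ((η (algebraMap A (Localization.Away f))).app Z) := by
  refine isIso_η_away_aux _ f ?_ Z hZ
  rw [show (algebraMap A (Localization.Away f)).toAlgebra =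
    (inferInstance : Algebra A (Localization.Away f)) from Algebra.algebra_ext _ _ fun r => rfl]
  infer_instance

/-- A module on which a scalar becoming a unit acts locally nilpotently dies after base change. -/
lemma isZero_extend (f : A) (hf : IsUnit (φ f)) (M : ModuleCat.{u} A) (hM : ∀ m : M, ∃ n : ℕ, f ^ n • m = 0) :
    IsZero ((ModuleCat.extendScalars.{u, u, u} φ).obj M) := by
  let _ : Algebra A B := φ.toAlgebra
  haveI : Subsingleton (B ⊗[A] M) := by
    refine subsingleton_of_forall_eq 0 fun x => ?_
    induction x using TensorProduct.induction_on with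
    | zero => rfl
    | tmul b m =>
      obtain ⟨n, hn⟩ := hM m
      obtain ⟨u, hu⟩ := hf.pow n
      have : b = f ^ n • ((↑u⁻¹ : B) * b) := by
        rw [Algebra.smul_def, show algebraMap A B (f ^ n) = (u : B) from (map_pow φ f n).trans hu.symm,
          Units.mul_inv_cancel_left]
      rw [this, TensorProduct.smul_tmul, hn, TensorProduct.tmul_zero]
    | add x y hx hy => rw [hx, hy, add_zero]
  exact ModuleCat.isZero_of_subsingleton (ModuleCat.of B (B ⊗[A] M))

end Groth.Agent.TorsExt
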