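import Groth.Agent.TorsExt.Eta
import Groth.Agent.SiteBase.HDURestr
import Groth.Agent.FlatMisc.RingPullback
import Groth.Agent.H9Misc.FinDimDerived

/-!
Vanishing of maps from power torsion modules into complexes of flat modules which are acyclic modulo
the ideal.
-/

set_option linter.style.haveILetI false

universe u

open CategoryTheory CategoryTheory.Limits CategoryTheory.Pretriangulated MonoidalCategory
open scoped TensorProduct

attribute [local instance] HasDerivedCategory.standard

namespace Groth.Agent.TorsExt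

variable {A B : Type u} [CommRing A] [CommRing B] {φ : A →+* B}

/-- Termwise extension of an endofunctor to complexes. -/
noncomputable abbrev onCx (G : ModuleCat.{u} A ⥤ ModuleCat.{u} A) [G.PreservesZeroMorphisms] :
    CochainComplex (ModuleCat.{u} A) ℤ ⥤ CochainComplex (ModuleCat.{u} A) ℤ :=
  G.mapHomologicalComplex (ComplexShape.up ℤ)

variable (φ) in
/-- The unit on complexes. -/
noncomputable def ηC (C : CochainComplex (ModuleCat.{u} A) ℤ) : C ⟶ (onCx (F φ)).obj C :=
  { f := fun i => (η φ).app (C.X i)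
    comm' := fun i j _ => ((η φ).naturality (C.d i j)).symm }

lemma acyclic_cone_iff {K L : CochainComplex (ModuleCat.{u} A) ℤ} (g : K ⟶ L) :
    (CochainComplex.mappingCone g).Acyclic ↔ QuasiIso g := by
  rw [← H9Misc.FinDimDerived.isZero_Q_obj_iff, ← DerivedCategory.isIso_Q_map_iff_quasiIso]
  exact Triangle.isZero₃_iff_isIso₁ (DerivedCategory.Q.mapTriangle.obj (CochainComplex.mappingCone.triangle g))
    (DerivedCategory.mappingCone_triangle_distinguished g)

/-- Base change along a flat map is exact. -/
lemma preservesFiniteLimits_F (hφ : φ.Flat) : PreservesFiniteLimits (F φ) :=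
  ModuleCat.preservesFiniteLimits_tensorLeft_of_ringHomFlat hφ

lemma flat_F_obj (hφ : φ.Flat) (Y : ModuleCat.{u} A) [Module.Flat A Y] : Module.Flat A ((F φ).obj Y) := by
  haveI : Module.Flat A (Bm φ) := hφ
  exact inferInstanceAs (Module.Flat A ((Bm φ) ⊗[A] Y))

/-- Terms of the cone of the unit are flat. -/
lemma flat_cone (hφ : φ.Flat) (C : CochainComplex (ModuleCat.{u} A) ℤ) (hC : ∀ i, Module.Flat A (C.X i))
    (i : ℤ) : Module.Flat A ((CochainComplex.mappingCone (ηC φ C)).X i) := by
  haveI := hC (i + 1)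
  haveI : Module.Flat A (((onCx (F φ)).obj C).X i) := haveI := hC i; flat_F_obj hφ (C.X i)
  haveI : Module.Flat A (C.X (i + 1) × ((onCx (F φ)).obj C).X i) := FlatMisc.flat_prod
  exact Module.Flat.of_linearEquiv (HomologicalComplex.homotopyCofiber.XIsoBiprod (ηC φ C) i (i + 1) rfl ≪≫
    ModuleCat.biprodIsoProd _ _).toLinearEquiv

/-- Tensoring the cone of the unit is acyclic when the unit is a quasi-isomorphism on the tensor
product. -/
lemma acyclic_map_cone (W : ModuleCat.{u} A) (C : CochainComplex (ModuleCat.{u} A) ℤ)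
    (h : QuasiIso (ηC φ ((onCx (T W)).obj C))) : ((onCx (T W)).obj (CochainComplex.mappingCone (ηC φ C))).Acyclic := by
  have e : Arrow.mk (ηC φ ((onCx (T W)).obj C)) ≅ Arrow.mk ((onCx (T W)).map (ηC φ C)) :=
    Arrow.isoMk (Iso.refl _)
      (((NatIso.mapHomologicalComplex (commIso φ W) (ComplexShape.up ℤ)).app C).symm) (by
      refine HomologicalComplex.hom_ext _ _ fun i => ?_
      change 𝟙 _ ≫ (T W).map ((η φ).app (C.X i)) = (η φ).app ((T W).obj (C.X i)) ≫ (commIso φ W).inv.app (C.X i)
      rw [Category.id_comp, ← map_η_commIso, Category.assoc, Iso.hom_inv_id_app]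
      exact (Category.comp_id _).symm)
  have : QuasiIso ((onCx (T W)).map (ηC φ C)) := (quasiIso_iff_of_arrow_mk_iso _ _ e).1 h
  exact fun i => ((acyclic_cone_iff _).2 this i).of_iso
    (CochainComplex.mappingCone.mapHomologicalComplexIso (ηC φ C) (T W)).symm

/-- The unit of a localisation is a quasi-isomorphism on a complex with bijective scalar on cohomology. -/
lemma quasiIso_ηC_away (f : A) (C : CochainComplex (ModuleCat.{u} A) ℤ)
    (h : ∀ i, Function.Bijective fun z : C.homology i => f • z) :
    QuasiIso (ηC (algebraMap A (Localization.Away f)) C) := by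
  set ψ := algebraMap A (Localization.Away f)
  haveI : Module.Flat A (Localization.Away f) := IsLocalization.flat _ (Submonoid.powers f)
  haveI : PreservesFiniteLimits (F ψ) := preservesFiniteLimits_F (RingHom.flat_algebraMap_iff.2 this)
  haveI : PreservesFiniteColimits (F ψ) := inferInstance
  refine ⟨fun i => ?_⟩
  rw [quasiIsoAt_iff_isIso_homologyMap]
  have h1 := NatTrans.app_homology (η ψ) (C.sc i)
  haveI : IsIso ((η ψ).app (C.homology i)) := isIso_η_away f _ (h i)
  haveI h2 : IsIso (((C.sc i).mapHomologyIso (𝟭 _)).inv ≫ ShortComplex.homologyMap ((C.sc i).mapNatTrans (η ψ)) ≫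
      ((C.sc i).mapHomologyIso (F ψ)).hom) := by
    rw [← h1]
    exact this
  haveI := IsIso.of_isIso_comp_left ((C.sc i).mapHomologyIso (𝟭 _)).inv
    (ShortComplex.homologyMap ((C.sc i).mapNatTrans (η ψ)) ≫ ((C.sc i).mapHomologyIso (F ψ)).hom)
  exact IsIso.of_isIso_comp_right (ShortComplex.homologyMap ((C.sc i).mapNatTrans (η ψ)))
    ((C.sc i).mapHomologyIso (F ψ)).hom

/-- `W` is killed by the elements of `s`. -/
def Killed (s : List A) (W : ModuleCat.{u} A) : Prop := ∀ f ∈ s, ∀ w : W, f • w = 0

/-- Tensoring a short exact sequence with a complex of flat modules. -/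
lemma shortExact_tensor (S : ShortComplex (ModuleCat.{u} A)) (hS : S.ShortExact)
    (C : CochainComplex (ModuleCat.{u} A) ℤ) (hC : ∀ i, Module.Flat A (C.X i)) :
    (ShortComplex.mk
      ((NatTrans.mapHomologicalComplex ((curriedTensor (ModuleCat.{u} A)).map S.f) (ComplexShape.up ℤ)).app C)
      ((NatTrans.mapHomologicalComplex ((curriedTensor (ModuleCat.{u} A)).map S.g) (ComplexShape.up ℤ)).app C)
      (by
        refine HomologicalComplex.hom_ext _ _ fun i => ?_
        change S.f ▷ C.X i ≫ S.g ▷ C.X i = 0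
        rw [← MonoidalCategory.comp_whiskerRight, S.zero, MonoidalPreadditive.zero_whiskerRight])).ShortExact := by
  haveI := hS.mono_f
  haveI := hS.epi_g
  refine HomologicalComplex.shortExact_of_degreewise_shortExact _ fun i => ?_
  haveI := hC i
  have hf : Function.Injective S.f.hom := (ModuleCat.mono_iff_injective _).1 inferInstance
  have hg : Function.Surjective S.g.hom := (ModuleCat.epi_iff_surjective _).1 inferInstance
  have hex : Function.Exact S.f.hom S.g.hom := (ShortComplex.ShortExact.moduleCat_exact_iff_function_exact S).1 hS.exact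
  exact
    { exact := (ShortComplex.ShortExact.moduleCat_exact_iff_function_exact _).2
        (Module.Flat.rTensor_exact (M := C.X i) hex)
      mono_f := (ModuleCat.mono_iff_injective _).2
        (Module.Flat.rTensor_preserves_injective_linearMap (M := C.X i) S.f.hom hf)
      epi_g := (ModuleCat.epi_iff_surjective _).2 (LinearMap.rTensor_surjective _ hg) }

/-- A scalar acts bijectively on the cohomology of `W ⊗ C`. -/
lemma bijective_smul_homology (f : A) (l : List A) (C : CochainComplex (ModuleCat.{u} A) ℤ)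
    (hC : ∀ i, Module.Flat A (C.X i)) (hgood : ∀ W, Killed (f :: l) W → ((onCx (T W)).obj C).Acyclic)
    (W : ModuleCat.{u} A) (hW : Killed l W) (i : ℤ) :
    Function.Bijective fun z : ((onCx (T W)).obj C).homology i => f • z := by
  let m : W →ₗ[A] W := LinearMap.lsmul A W f
  let K : ModuleCat.{u} A := ModuleCat.of A (LinearMap.ker m)
  let R : ModuleCat.{u} A := ModuleCat.of A (LinearMap.range m)
  let Q : ModuleCat.{u} A := ModuleCat.of A (W ⧸ LinearMap.range m)
  have hK : Killed (f :: l) K := fun g hg w => Subtype.ext <| by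
    rcases List.mem_cons.1 hg with rfl | hg
    · exact w.2
    · exact hW g hg (w : W)
  have hQ : Killed (f :: l) Q := fun g hg w => by
    obtain ⟨w, rfl⟩ := Submodule.Quotient.mk_surjective _ w
    rw [← Submodule.Quotient.mk_smul, Submodule.Quotient.mk_eq_zero]
    rcases List.mem_cons.1 hg with rfl | hg
    · exact ⟨w, rfl⟩
    · rw [hW g hg]; exact Submodule.zero_mem _
  let p : W ⟶ R := ModuleCat.ofHom m.rangeRestrict
  let ι : R ⟶ W := ModuleCat.ofHom (LinearMap.range m).subtype
  let S₁ : ShortComplex (ModuleCat.{u} A) := ShortComplex.mk (ModuleCat.ofHom (LinearMap.ker m).subtype) p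
    (by ext w; exact LinearMap.mem_ker.1 w.2)
  have hS₁ : S₁.ShortExact :=
    { exact := (ShortComplex.ShortExact.moduleCat_exact_iff_function_exact S₁).2 fun w =>
        ⟨fun h => ⟨⟨w, congrArg Subtype.val h⟩, rfl⟩, by rintro ⟨v, rfl⟩; exact Subtype.ext v.2⟩
      mono_f := (ModuleCat.mono_iff_injective _).2 Subtype.val_injective
      epi_g := (ModuleCat.epi_iff_surjective _).2 m.surjective_rangeRestrict }
  let S₂ : ShortComplex (ModuleCat.{u} A) := ShortComplex.mk ι (ModuleCat.ofHom (LinearMap.range m).mkQ)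
    (by ext w; exact (Submodule.Quotient.mk_eq_zero _).2 w.2)
  have hS₂ : S₂.ShortExact :=
    { exact := (ShortComplex.ShortExact.moduleCat_exact_iff_function_exact S₂).2
        ((LinearMap.exact_subtype_mkQ (LinearMap.range m)))
      mono_f := (ModuleCat.mono_iff_injective _).2 Subtype.val_injective
      epi_g := (ModuleCat.epi_iff_surjective _).2 (Submodule.mkQ_surjective _) }
  have q₁ := KFlatLib.quasiIso_g_of_acyclic (shortExact_tensor S₁ hS₁ C hC) (hgood K hK)
  have q₂ := KFlatLib.quasiIso_f_of_acyclic (shortExact_tensor S₂ hS₂ C hC) (hgood Q hQ)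
  let μ : (onCx (T W)).obj C ⟶ (onCx (T W)).obj C :=
    (NatTrans.mapHomologicalComplex ((curriedTensor (ModuleCat.{u} A)).map p) (ComplexShape.up ℤ)).app C ≫
      (NatTrans.mapHomologicalComplex ((curriedTensor (ModuleCat.{u} A)).map ι) (ComplexShape.up ℤ)).app C
  haveI := q₁
  haveI := q₂
  have hμ : QuasiIso μ := quasiIso_comp _ _
  have hμ' : ((HomologicalComplex.shortComplexFunctor _ _ i).map μ) =
      f • 𝟙 (((onCx (T W)).obj C).sc i) := by
    have key : ∀ j, μ.f j = f • 𝟙 (((onCx (T W)).obj C).X j) := by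
      intro j
      apply ModuleCat.hom_ext
      refine TensorProduct.ext' fun w x => ?_
      exact TensorProduct.smul_tmul' f w x
    ext1 <;> exact key _
  haveI := hμ
  have h3 : IsIso (f • 𝟙 (((onCx (T W)).obj C).homology i)) := by
    have h4 : IsIso (ShortComplex.homologyMap ((HomologicalComplex.shortComplexFunctor _ _ i).map μ)) :=
      (quasiIsoAt_iff_isIso_homologyMap _ _).1 (hμ.quasiIsoAt i)
    rw [hμ', ShortComplex.homologyMap_smul, ShortComplex.homologyMap_id] at h4
    exact h4
  exact (ConcreteCategory.isIso_iff_bijective _).1 h3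

/-- Maps into a localised complex from a torsion module vanish. -/
lemma subsingleton_hom_localised (f : A) (C : CochainComplex (ModuleCat.{u} A) ℤ) (M : ModuleCat.{u} A)
    (hM : ∀ m : M, ∃ n : ℕ, f ^ n • m = 0) (j : ℤ) :
    Subsingleton ((DerivedCategory.singleFunctor _ 0).obj M ⟶
      (DerivedCategory.Q.obj ((onCx (F (algebraMap A (Localization.Away f)))).obj C))⟦j⟧) := by
  set ψ := algebraMap A (Localization.Away f)
  haveI : Module.Flat A (Localization.Away f) := IsLocalization.flat _ (Submonoid.powers f)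
  haveI := ModuleCat.preservesFiniteLimits_extendScalars_of_flat (RingHom.flat_algebraMap_iff.2 this : ψ.Flat)
  haveI : (ModuleCat.extendScalars.{u, u, u} ψ).IsLeftAdjoint :=
    (ModuleCat.extendRestrictScalarsAdj ψ).isLeftAdjoint
  haveI : PreservesFiniteColimits (ModuleCat.extendScalars.{u, u, u} ψ) := inferInstance
  have hz := isZero_extend ψ f (IsLocalization.Away.algebraMap_isUnit f) M hM
  let Y := ((ModuleCat.extendScalars.{u, u, u} ψ).mapHomologicalComplex (ComplexShape.up ℤ)).obj C
  obtain ⟨e⟩ := HDURestr.nonempty_hom_addEquiv (ModuleCat.extendRestrictScalarsAdj ψ) M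
    ((ModuleCat.extendScalars.{u, u, u} ψ).obj M) (Iso.refl _) (DerivedCategory.Q.obj Y) j
  let c : (ModuleCat.restrictScalars.{u} ψ).mapDerivedCategory.obj (DerivedCategory.Q.obj Y) ≅
      DerivedCategory.Q.obj ((onCx (F ψ)).obj C) :=
    (ModuleCat.restrictScalars.{u} ψ).mapDerivedCategoryFactors.app Y
  haveI : Subsingleton ((DerivedCategory.singleFunctor _ 0).obj ((ModuleCat.extendScalars.{u, u, u} ψ).obj M) ⟶
      (DerivedCategory.Q.obj Y)⟦j⟧) :=
    ⟨fun a b => ((DerivedCategory.singleFunctor _ 0).map_isZero hz).eq_of_src a b⟩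
  haveI := e.symm.toEquiv.subsingleton
  exact (((Iso.refl _).homCongr ((shiftFunctor (DerivedCategory (ModuleCat.{u} A)) j).mapIso c)).symm).subsingleton

/-- Vanishing: if `W ⊗ C` is acyclic for all `W` killed by `l`, then a module on which `l` acts locally
nilpotently has no maps to any shift of `C`. -/
theorem subsingleton_hom (l : List A) : ∀ (C : CochainComplex (ModuleCat.{u} A) ℤ),
    (∀ i, Module.Flat A (C.X i)) → (∀ W, Killed l W → ((onCx (T W)).obj C).Acyclic) →
    ∀ (M : ModuleCat.{u} A), (∀ f ∈ l, ∀ m : M, ∃ n : ℕ, f ^ n • m = 0) → ∀ j : ℤ,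
      Subsingleton ((DerivedCategory.singleFunctor _ 0).obj M ⟶ (DerivedCategory.Q.obj C)⟦j⟧) := by
  induction l with
  | nil =>
    intro C _ hgood M _ j
    have h := hgood (𝟙_ (ModuleCat.{u} A)) (fun f hf => absurd hf List.not_mem_nil)
    have hC : C.Acyclic := fun i => (h i).of_iso
      ((NatIso.mapHomologicalComplex (leftUnitorNatIso (ModuleCat.{u} A)) (ComplexShape.up ℤ)).app C ≪≫
        (Functor.mapHomologicalComplexIdIso (ModuleCat.{u} A) (ComplexShape.up ℤ)).app C)
    have hz : IsZero ((DerivedCategory.Q.obj C)⟦j⟧) :=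
      (shiftFunctor _ j).map_isZero ((H9Misc.FinDimDerived.isZero_Q_obj_iff C).2 hC)
    exact ⟨fun a b => hz.eq_of_tgt a b⟩
  | cons f l ih =>
    intro C hC hgood M hM j
    set ψ := algebraMap A (Localization.Away f)
    haveI : Module.Flat A (Localization.Away f) := IsLocalization.flat _ (Submonoid.powers f)
    have hψ : ψ.Flat := RingHom.flat_algebraMap_iff.2 this
    have h1 := ih (CochainComplex.mappingCone (ηC ψ C)) (flat_cone hψ C hC)
      (fun W hW => acyclic_map_cone W C
        (quasiIso_ηC_away f _ (bijective_smul_homology f l C hC hgood W hW)))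
      M (fun g hg => hM g (List.mem_cons_of_mem _ hg))
    have h2 := subsingleton_hom_localised f C M (hM f List.mem_cons_self) j
    let T₀ := DerivedCategory.Q.mapTriangle.obj (CochainComplex.mappingCone.triangle (ηC ψ C))
    have hT := (Triangle.shift_distinguished T₀ (DerivedCategory.mappingCone_triangle_distinguished (ηC ψ C)) j)
    refine subsingleton_of_forall_eq 0 fun x => ?_
    have hx : x ≫ ((Triangle.shiftFunctor _ j).obj T₀).mor₁ = 0 := h2.elim _ _
    obtain ⟨y, hy⟩ := Triangle.coyoneda_exact₂ _ (inv_rot_of_distTriang _ hT) x hx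
    have hy0 : y = 0 := by
      let c : (((Triangle.shiftFunctor _ j).obj T₀).obj₃)⟦(-1 : ℤ)⟧ ≅ T₀.obj₃⟦j - 1⟧ :=
        ((shiftFunctorAdd' (DerivedCategory (ModuleCat.{u} A)) j (-1) (j - 1) (by omega)).app T₀.obj₃).symm
      exact @Subsingleton.elim _ (@Equiv.subsingleton _ _ ((Iso.refl _).homCongr c) (h1 (j - 1))) y 0
    rw [hy, hy0]
    exact zero_comp

end Groth.Agent.TorsExt
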